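import Mathlib

/-!
Etale morphisms to a scheme which is preimmersed in `Y` lift locally to etale morphisms to `Y`.
-/

set_option autoImplicit false
set_option linter.style.haveILetI false
open CategoryTheory CategoryTheory.Limits AlgebraicGeometry Opposite TensorProduct Polynomial
universe u

namespace Groth.Agent.H8Props.EtaleLift

/-- A standard etale algebra whose coefficients lift along `P → S` comes from `P`. -/
theorem exists_standardEtale_lift {P S T : Type u} [CommRing P] [CommRing S] [CommRing T]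
    [Algebra P S] [Algebra S T] (P0 : StandardEtalePresentation S T)
    (hcf : ∀ n, P0.f.coeff n ∈ Set.range (algebraMap P S))
    (hcg : ∀ n, P0.g.coeff n ∈ Set.range (algebraMap P S)) :
    ∃ (Tl : Type u) (_ : CommRing Tl) (_ : Algebra P Tl),
      Algebra.IsStandardEtale P Tl ∧ Nonempty (S ⊗[P] Tl ≃ₐ[S] T) := by
  obtain ⟨f', hf', hfm⟩ : ∃ f' : P[X], f'.map (algebraMap P S) = P0.f ∧ f'.Monic := by
    obtain ⟨q, h1, -, h3⟩ := Polynomial.lifts_and_natDegree_eq_and_monic (f := algebraMap P S)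
      ((Polynomial.lifts_iff_coeff_lifts _).2 hcf) P0.monic_f
    exact ⟨q, h1, h3⟩
  obtain ⟨g', hg'⟩ := (Polynomial.mem_lifts _).1
    ((Polynomial.lifts_iff_coeff_lifts (f := algebraMap P S) P0.g).2 hcg)
  let Q : StandardEtalePair P := ⟨f', hfm, g' * derivative f', ⟨g', 0, 1, by ring⟩⟩
  have hf : (Q.map (algebraMap P S)).f = P0.f := hf'
  have hg : (Q.map (algebraMap P S)).g = P0.g * derivative P0.f := by
    simp [Q, Polynomial.derivative_map, ← hf', hg']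
  have h : (Q.map (algebraMap P S)).HasMap P0.x := by
    refine ⟨by rw [hf]; exact P0.hasMap.1, ?_⟩
    rw [hg, map_mul]
    exact P0.hasMap.2.mul P0.hasMap.isUnit_derivative_f
  have h' : P0.HasMap (Q.map (algebraMap P S)).X := by
    refine ⟨by rw [← hf]; exact (Q.map (algebraMap P S)).hasMap_X.1, ?_⟩
    have := (Q.map (algebraMap P S)).hasMap_X.2
    rw [hg, map_mul] at this
    exact isUnit_of_mul_isUnit_left this
  let pres : StandardEtalePresentation S T :=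
    { P := Q.map (algebraMap P S), x := P0.x, hasMap := h
      lift_bijective := (AlgEquiv.ofAlgHom ((Q.map (algebraMap P S)).lift P0.x h)
        ((P0.lift _ h').comp P0.equivRing.toAlgHom)
        (P0.hom_ext (by simp)) ((Q.map (algebraMap P S)).hom_ext (by simp))).bijective }
  let pQ : StandardEtalePresentation P Q.Ring :=
    ⟨Q, Q.X, Q.hasMap_X, by simpa [StandardEtalePair.lift_X_left] using Function.bijective_id⟩
  exact ⟨Q.Ring, inferInstance, inferInstance, ⟨⟨pQ⟩⟩,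
    ⟨(pQ.baseChange (T := S)).equivRing.trans pres.equivRing.symm⟩⟩

/-- Finitely many elements of a ring lift after localizing, along a map surjective on stalks. -/
theorem exists_den {B F : Type u} [CommRing B] [CommRing F] (φ : B →+* F)
    (hφ : φ.SurjectiveOnStalks) (P : Ideal F) [P.IsPrime] (s : Finset F) :
    ∃ (r : B) (c : F), φ r ∉ P ∧ c ∉ P ∧ ∀ x ∈ s, ∃ a : B, c * φ r * x = c * φ a := by
  classical
  induction s using Finset.induction_on with
  | empty => exact ⟨1, 1, by simpa using (Ideal.ne_top_iff_one P).1 ‹P.IsPrime›.ne_top,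
      (Ideal.ne_top_iff_one P).1 ‹P.IsPrime›.ne_top, by simp⟩
  | insert y s hy ih =>
    obtain ⟨r, c, hr, hc, ih⟩ := ih
    obtain ⟨b, r', c', hc', hr', e⟩ :=
      (RingHom.surjective_localRingHom_iff P).1 (hφ P ‹_›) y
    refine ⟨r * r', c * c', by rw [map_mul]; exact ‹P.IsPrime›.mul_notMem hr hr',
      ‹P.IsPrime›.mul_notMem hc hc', fun x hx => ?_⟩
    rcases Finset.mem_insert.1 hx with rfl | hx
    · exact ⟨r * b, by rw [map_mul, map_mul]; linear_combination c * φ r * e⟩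
    · obtain ⟨a, ha⟩ := ih x hx
      exact ⟨r' * a, by rw [map_mul, map_mul]; linear_combination c' * φ r' * ha⟩

/-- A point of a preimmersed scheme has small affine neighbourhoods in `Y` with affine trace. -/
theorem exists_affine_trace {Z Y : Scheme.{u}} (i : Z ⟶ Y) [IsPreimmersion i] (z : Z)
    (W : Y.Opens) (hz : i.base z ∈ W) (N : Z.Opens) (hzN : z ∈ N) :
    ∃ W' : Y.Opens, W' ≤ W ∧ i.base z ∈ W' ∧ IsAffineOpen W' ∧ IsAffineOpen (i ⁻¹ᵁ W') ∧
      i ⁻¹ᵁ W' ≤ N := by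
  obtain ⟨W₁, hW₁, hzW₁, hW₁le⟩ := TopologicalSpace.Opens.isBasis_iff_nbhd.mp Y.isBasis_affineOpens
    (show i.base z ∈ W from hz)
  obtain ⟨Z₁, hZ₁, hzZ₁, hle⟩ := TopologicalSpace.Opens.isBasis_iff_nbhd.mp Z.isBasis_affineOpens
    (show z ∈ (i ⁻¹ᵁ W₁) ⊓ N from ⟨hzW₁, hzN⟩)
  obtain ⟨O, hO, hOZ⟩ := i.isEmbedding.isInducing.isOpen_iff.1 Z₁.isOpen
  have hzO : i.base z ∈ O := by
    have : z ∈ i.base ⁻¹' O := hOZ ▸ hzZ₁
    exact this
  obtain ⟨t, htle, hzt⟩ := hW₁.exists_basicOpen_le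
    (V := (⟨O, hO⟩ : Y.Opens)) ⟨i.base z, hzO⟩ hzW₁
  have hsub : i ⁻¹ᵁ Y.basicOpen t ≤ Z₁ := fun w hw => by
    have : w ∈ i.base ⁻¹' O := htle hw
    rwa [hOZ] at this
  refine ⟨Y.basicOpen t, (Y.basicOpen_le t).trans hW₁le, hzt, hW₁.basicOpen t, ?_,
    hsub.trans (hle.trans inf_le_right)⟩
  rw [show i ⁻¹ᵁ Y.basicOpen t =
      Z.basicOpen (Z.presheaf.map (homOfLE (hle.trans inf_le_left)).op (i.app W₁ t)) by
    rw [Scheme.basicOpen_res, ← Scheme.preimage_basicOpen]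
    exact (inf_eq_right.2 hsub).symm]
  exact hZ₁.basicOpen _

set_option backward.isDefEq.respectTransparency.types false in
/-- An etale morphism to a scheme preimmersed in `Y` is, near each point of the source, the
restriction of an etale morphism to `Y`. -/
theorem exists_etale_lift {Z Y U : Scheme.{u}} (i : Z ⟶ Y) [IsPreimmersion i]
    (p : U ⟶ Z) [Etale p] (x : U) :
    ∃ (V : Scheme.{u}) (q : V ⟶ Y) (U' : Scheme.{u}) (j : U' ⟶ U) (a : U' ⟶ V),
      IsAffine V ∧ Etale q ∧ IsOpenImmersion j ∧ x ∈ Set.range j.base ∧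
        IsPullback a (j ≫ p) q i := by
  classical
  obtain ⟨W, -, hxW, hW, hZW, -⟩ := exists_affine_trace i (p.base x) ⊤ (by trivial) ⊤ (by trivial)
  obtain ⟨U₁, hU₁, hxU₁, hle⟩ := TopologicalSpace.Opens.isBasis_iff_nbhd.mp U.isBasis_affineOpens
    (show x ∈ p ⁻¹ᵁ (i ⁻¹ᵁ W) from hxW)
  let φ := i.app W
  let ψ := p.appLE (i ⁻¹ᵁ W) U₁ hle
  let : Algebra Γ(Z, i ⁻¹ᵁ W) Γ(U, U₁) := ψ.hom.toAlgebra
  have het : Algebra.Etale Γ(Z, i ⁻¹ᵁ W) Γ(U, U₁) :=
    HasRingHomProperty.appLE @Etale p ‹_› ⟨_, hZW⟩ ⟨_, hU₁⟩ hle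
  obtain ⟨f, hf, hst⟩ := Algebra.IsEtaleAt.exists_isStandardEtale (R := Γ(Z, i ⁻¹ᵁ W))
    (hU₁.primeIdealOf ⟨x, hxU₁⟩).asIdeal
  have hU₂ : IsAffineOpen (U.basicOpen f) := hU₁.basicOpen f
  have hxU₂ : x ∈ U.basicOpen f := by
    have : hU₁.primeIdealOf ⟨x, hxU₁⟩ ∈ hU₁.fromSpec ⁻¹ᵁ U.basicOpen f := by
      rw [hU₁.fromSpec_preimage_basicOpen]; exact hf
    have := show hU₁.fromSpec (hU₁.primeIdealOf ⟨x, hxU₁⟩) ∈ U.basicOpen f from this
    rwa [hU₁.fromSpec_primeIdealOf] at this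
  have hle₂ : U.basicOpen f ≤ p ⁻¹ᵁ (i ⁻¹ᵁ W) := (U.basicOpen_le f).trans hle
  let ψ₂ := p.appLE (i ⁻¹ᵁ W) (U.basicOpen f) hle₂
  let : Algebra Γ(Z, i ⁻¹ᵁ W) Γ(U, U.basicOpen f) := ψ₂.hom.toAlgebra
  have htow : IsScalarTower Γ(Z, i ⁻¹ᵁ W) Γ(U, U₁) Γ(U, U.basicOpen f) :=
    .of_algebraMap_eq' congr($((Scheme.Hom.appLE_map p hle (homOfLE (U.basicOpen_le f)).op).symm).hom)
  have := hU₁.isLocalization_basicOpen f
  have hst₂ : Algebra.IsStandardEtale Γ(Z, i ⁻¹ᵁ W) Γ(U, U.basicOpen f) :=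
    .of_equiv ((IsLocalization.algEquiv (Submonoid.powers f) (Localization.Away f)
      Γ(U, U.basicOpen f)).restrictScalars Γ(Z, i ⁻¹ᵁ W))
  let P0 : StandardEtalePresentation Γ(Z, i ⁻¹ᵁ W) Γ(U, U.basicOpen f) :=
    Algebra.IsStandardEtale.nonempty_standardEtalePresentation.some
  -- denominators of the coefficients
  have hsos : φ.hom.SurjectiveOnStalks := by
    have := HasRingHomProperty.appLE @SurjectiveOnStalks i inferInstance ⟨_, hW⟩ ⟨_, hZW⟩ le_rfl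
    rwa [← Scheme.Hom.app_eq_appLE] at this
  let P := hZW.primeIdealOf ⟨p.base x, hxW⟩
  obtain ⟨r, c, hr, hc, hlift⟩ := exists_den φ.hom hsos P.asIdeal (P0.f.coeffs ∪ P0.g.coeffs)
  have hmem : ∀ e : Γ(Z, i ⁻¹ᵁ W), e ∉ P.asIdeal → p.base x ∈ Z.basicOpen e := fun e he => by
    have : P ∈ hZW.fromSpec ⁻¹ᵁ Z.basicOpen e := by
      rw [hZW.fromSpec_preimage_basicOpen]; exact he
    have := show hZW.fromSpec P ∈ Z.basicOpen e from this
    rwa [hZW.fromSpec_primeIdealOf] at this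
  have hzr : i.base (p.base x) ∈ Y.basicOpen r := by
    have := hmem (φ r) hr
    rw [← Scheme.preimage_basicOpen] at this
    exact this
  obtain ⟨W', hW'r, hxW', hW', hZW', hW'c⟩ :=
    exists_affine_trace i (p.base x) (Y.basicOpen r) hzr (Z.basicOpen c) (hmem c hc)
  have hW'W : W' ≤ W := hW'r.trans (Y.basicOpen_le r)
  have hZle : i ⁻¹ᵁ W' ≤ i ⁻¹ᵁ W := fun w hw => hW'W hw
  let φ' := i.app W'
  let ρ := Z.presheaf.map (homOfLE hZle).op
  have hnat : ∀ b, ρ (φ b) = φ' (Y.presheaf.map (homOfLE hW'W).op b) := fun b =>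
    (congr($(i.naturality (homOfLE hW'W).op) b)).symm
  have hrange : ∀ e ∈ P0.f.coeffs ∪ P0.g.coeffs, ρ e ∈ Set.range φ' := fun e he => by
    obtain ⟨a, ha⟩ := hlift e he
    obtain ⟨r', hr'⟩ : IsUnit (Y.presheaf.map (homOfLE hW'W).op r) := by
      have := (RingedSpace.isUnit_res_basicOpen Y.toRingedSpace r).map
        (Y.presheaf.map (homOfLE hW'r).op).hom
      rw [show (homOfLE hW'W).op = (homOfLE (Y.basicOpen_le r)).op ≫ (homOfLE hW'r).op from rfl,
        Functor.map_comp]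
      exact this
    have hcu : IsUnit (ρ c) := by
      have := (RingedSpace.isUnit_res_basicOpen Z.toRingedSpace c).map
        (Z.presheaf.map (homOfLE hW'c).op).hom
      simp only [ρ]
      rw [show (homOfLE hZle).op = (homOfLE (Z.basicOpen_le c)).op ≫ (homOfLE hW'c).op from rfl,
        Functor.map_comp]
      exact this
    refine ⟨Y.presheaf.map (homOfLE hW'W).op a * ↑r'⁻¹, ?_⟩
    have h := congr(ρ $ha)
    rw [map_mul, map_mul, map_mul, mul_assoc] at h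
    have h' := hcu.mul_left_cancel h
    rw [hnat, hnat, ← hr'] at h'
    rw [map_mul, ← h', mul_comm (φ' _) (ρ e), mul_assoc, ← map_mul, Units.mul_inv, map_one,
      mul_one]
  let : Algebra Γ(Y, W') Γ(Z, i ⁻¹ᵁ W') := φ'.hom.toAlgebra
  let : Algebra Γ(Z, i ⁻¹ᵁ W) Γ(Z, i ⁻¹ᵁ W') := ρ.hom.toAlgebra
  let P1 := P0.baseChange (T := Γ(Z, i ⁻¹ᵁ W'))
  have hcoeff : ∀ q : Polynomial Γ(Z, i ⁻¹ᵁ W), q.coeffs ⊆ P0.f.coeffs ∪ P0.g.coeffs → ∀ n,
      (q.map (algebraMap Γ(Z, i ⁻¹ᵁ W) Γ(Z, i ⁻¹ᵁ W'))).coeff n ∈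
        Set.range (algebraMap Γ(Y, W') Γ(Z, i ⁻¹ᵁ W')) := fun q hq n => by
    rw [Polynomial.coeff_map]
    by_cases h0 : q.coeff n = 0
    · rw [h0, map_zero]; exact ⟨0, map_zero _⟩
    · exact hrange _ (hq (Polynomial.coeff_mem_coeffs h0))
  obtain ⟨Tl, _, _, hTl, ⟨e⟩⟩ := exists_standardEtale_lift (P := Γ(Y, W')) P1
    (hcoeff _ Finset.subset_union_left) (hcoeff _ Finset.subset_union_right)
  let T' := Γ(Z, i ⁻¹ᵁ W') ⊗[Γ(Z, i ⁻¹ᵁ W)] Γ(U, U.basicOpen f)
  let ψ₃ : Γ(Z, i ⁻¹ᵁ W') ⟶ CommRingCat.of T' := CommRingCat.ofHom (algebraMap _ T')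
  let ι : Γ(U, U.basicOpen f) ⟶ CommRingCat.of T' :=
    CommRingCat.ofHom Algebra.TensorProduct.includeRight.toRingHom
  let σ : CommRingCat.of Tl ⟶ CommRingCat.of T' :=
    CommRingCat.ofHom (e.toRingEquiv.toRingHom.comp Algebra.TensorProduct.includeRight.toRingHom)
  have hpo : IsPushout φ' (CommRingCat.ofHom (algebraMap Γ(Y, W') Tl)) ψ₃ σ :=
    (CommRingCat.isPushout_tensorProduct Γ(Y, W') Γ(Z, i ⁻¹ᵁ W') Tl).of_iso (Iso.refl _)
      (Iso.refl _) (Iso.refl _) e.toRingEquiv.toCommRingCatIso (by cat_disch) (by cat_disch)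
      (by ext s; exact e.commutes s)
      (by ext t; rfl)
  have hpo₂ : IsPushout ρ ψ₂ ψ₃ ι :=
    CommRingCat.isPushout_tensorProduct Γ(Z, i ⁻¹ᵁ W) Γ(Z, i ⁻¹ᵁ W') Γ(U, U.basicOpen f)
  have hρ : Spec.map ρ ≫ hZW.fromSpec = hZW'.fromSpec :=
    IsAffineOpen.map_fromSpec hZW hZW' (homOfLE hZle).op
  have hρo : IsOpenImmersion (Spec.map ρ) := by
    have : IsOpenImmersion (Spec.map ρ ≫ hZW.fromSpec) := hρ ▸ inferInstance
    exact IsOpenImmersion.of_comp _ hZW.fromSpec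
  have hsq := isPullback_SpecMap_of_isPushout _ _ _ _ hpo₂
  have hι : IsOpenImmersion (Spec.map ι) :=
    MorphismProperty.of_isPullback hsq inferInstance
  refine ⟨Spec (.of Tl), Spec.map (CommRingCat.ofHom (algebraMap Γ(Y, W') Tl)) ≫ hW'.fromSpec,
    Spec (.of T'), Spec.map ι ≫ hU₂.fromSpec, Spec.map σ, inferInstance, ?_, inferInstance,
    ?_, ?_⟩
  · have : Etale (Spec.map (CommRingCat.ofHom (algebraMap Γ(Y, W') Tl))) :=
      (HasRingHomProperty.Spec_iff (P := @Etale)).2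
        (RingHom.etale_algebraMap.mpr inferInstance)
    infer_instance
  · obtain ⟨w, hw⟩ : p.base x ∈ Set.range hZW'.fromSpec := by
      rw [hZW'.range_fromSpec]; exact hxW'
    have h1 : Spec.map ρ w = Spec.map ψ₂ (hU₂.primeIdealOf ⟨x, hxU₂⟩) := by
      apply hZW.fromSpec.isOpenEmbedding.injective
      rw [← Scheme.Hom.comp_apply, ← Scheme.Hom.comp_apply, hρ,
        IsAffineOpen.SpecMap_appLE_fromSpec p hZW hU₂ hle₂, Scheme.Hom.comp_apply,
        hU₂.fromSpec_primeIdealOf, hw]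
    obtain ⟨t, ht1, ht2⟩ := Scheme.exists_preimage_of_isPullback hsq _ _ h1
    refine ⟨t, ?_⟩
    rw [Scheme.Hom.comp_apply, ht2, hU₂.fromSpec_primeIdealOf]
  · have h2 : IsPullback (Spec.map φ') hZW'.fromSpec hW'.fromSpec i :=
      IsOpenImmersion.isPullback _ _ _ _
        ((IsAffineOpen.SpecMap_appLE_fromSpec i hW' hZW' le_rfl).symm.trans
          congr(Spec.map $((Scheme.Hom.app_eq_appLE i).symm) ≫ hW'.fromSpec))
        (by rw [hW'.opensRange_fromSpec, hZW'.opensRange_fromSpec])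
    have h3 := (isPullback_SpecMap_of_isPushout _ _ _ _ hpo).flip.paste_vert h2
    rwa [← hρ, ← Category.assoc, hsq.w, Category.assoc,
      IsAffineOpen.SpecMap_appLE_fromSpec p hZW hU₂ hle₂, ← Category.assoc] at h3

end Groth.Agent.H8Props.EtaleLift
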